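import Groth.Agent.GeomField.Field
import Mathlib.FieldTheory.PurelyInseparable.Basic
import Mathlib.RingTheory.Localization.FractionRing
import Mathlib.LinearAlgebra.Dimension.Free

/-!
# Regular extensions: linear disjointness with algebraic extensions
-/

set_option linter.style.haveILetI false
set_option backward.isDefEq.respectTransparency false
set_option backward.isDefEq.respectTransparency.types false

universe u

open TensorProduct

namespace Groth.Agent.GSDeg

variable (F : Type u) [Field F]

/-- A reduced tensor product with a fraction field. -/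
theorem isReduced_tensor_fraction (A K E : Type u) [CommRing A] [Field K] [Field E] [Algebra F A]
    [Algebra F K] [Algebra F E] [Algebra A K] [IsScalarTower F A K] [IsFractionRing A K]
    [IsReduced (A ⊗[F] E)] : IsReduced (K ⊗[F] E) := by
  haveI : Nontrivial A := (algebraMap A K).domain_nontrivial
  let μ : A ⊗[F] E →ₐ[F] K ⊗[F] E :=
    Algebra.TensorProduct.map (IsScalarTower.toAlgHom F A K) (AlgHom.id F E)
  have hμ : Function.Injective μ :=
    Module.Flat.rTensor_preserves_injective_linearMap (M := E) (IsScalarTower.toAlgHom F A K).toLinearMap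
      (IsFractionRing.injective A K)
  have key : ∀ z : K ⊗[F] E, ∃ s : A, algebraMap A K s ≠ 0 ∧ ∃ y, (algebraMap A K s ⊗ₜ[F] (1 : E)) * z = μ y := by
    intro z
    induction z using TensorProduct.induction_on with
    | zero => exact ⟨1, by simp, 0, by simp⟩
    | tmul c e =>
      obtain ⟨a, b, hb, rfl⟩ := IsFractionRing.div_surjective A c
      have hb0 : algebraMap A K b ≠ 0 := IsFractionRing.to_map_ne_zero_of_mem_nonZeroDivisors hb
      refine ⟨b, hb0, a ⊗ₜ e, ?_⟩
      simp only [μ, Algebra.TensorProduct.map_tmul, Algebra.TensorProduct.tmul_mul_tmul, one_mul,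
        AlgHom.coe_id, id_eq, IsScalarTower.coe_toAlgHom', mul_div_cancel₀ _ hb0]
    | add z w hz hw =>
      obtain ⟨s, hs, y, hy⟩ := hz
      obtain ⟨t, ht, v, hv⟩ := hw
      refine ⟨s * t, by rw [map_mul]; exact mul_ne_zero hs ht,
        (t ⊗ₜ (1 : E)) * y + (s ⊗ₜ (1 : E)) * v, ?_⟩
      simp only [map_add, map_mul, ← hy, ← hv, μ, Algebra.TensorProduct.map_tmul, AlgHom.coe_id, id_eq,
        IsScalarTower.coe_toAlgHom']
      rw [show (algebraMap A K s * algebraMap A K t) ⊗ₜ[F] (1 : E) =
        (algebraMap A K s ⊗ₜ (1 : E)) * (algebraMap A K t ⊗ₜ (1 : E)) by simp]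
      ring
  refine ⟨fun z hz => ?_⟩
  obtain ⟨s, hs, y, hy⟩ := key z
  have hy0 : IsNilpotent (μ y) := hy ▸ (Commute.all _ _).isNilpotent_mul_left hz
  have : y = 0 := IsReduced.eq_zero y ((IsNilpotent.map_iff hμ).1 hy0)
  rw [this, map_zero] at hy
  have hu : IsUnit (algebraMap A K s ⊗ₜ[F] (1 : E)) :=
    (isUnit_iff_ne_zero.2 hs).map (Algebra.TensorProduct.includeLeft : K →ₐ[F] K ⊗[F] E)
  exact hu.mul_right_eq_zero.1 hy

theorem expChar_pow_ne_zero (q : ℕ) [ExpChar F q] (m : ℕ) : q ^ m ≠ 0 :=
  pow_ne_zero m (expChar_ne_zero F q)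

variable (k' K : Type u) [Field k'] [Field K] [Algebra F k'] [Algebra F K]

/-- The separable case of linear disjointness and the purely inseparable one. -/
theorem isField_tensor_aux (S : Type u) [Field S] [Algebra F S] [Algebra S k'] [IsScalarTower F S k']
    [IsPurelyInseparable S k'] [Algebra.IsSeparable F S] [FiniteDimensional F S] [FiniteDimensional F k']
    [IsReduced (K ⊗[F] k')]
    (hsep : ∀ a : K, IsSeparable F a → a ∈ Set.range (algebraMap F K)) : IsField (K ⊗[F] k') := by
  haveI : Nontrivial (K ⊗[F] k') :=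
    (Algebra.TensorProduct.includeLeft_injective (S := F) (A := K) (algebraMap F k').injective).nontrivial
  haveI : IsDomain (K ⊗[F] S) := GeomField.isDomain_tensor_of_separable S K hsep
  obtain ⟨q, hq⟩ := ExpChar.exists F
  haveI := hq
  haveI : ExpChar S q := expChar_of_injective_ringHom (algebraMap F S).injective q
  haveI : ExpChar k' q := expChar_of_injective_ringHom (algebraMap F k').injective q
  haveI : ExpChar (K ⊗[F] k') q := expChar_of_injective_ringHom
    (f := algebraMap F (K ⊗[F] k')) (algebraMap F (K ⊗[F] k')).injective q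
  let μ : K ⊗[F] S →ₐ[F] K ⊗[F] k' := Algebra.TensorProduct.map (AlgHom.id F K) (IsScalarTower.toAlgHom F S k')
  have hμ : Function.Injective μ :=
    Module.Flat.lTensor_preserves_injective_linearMap (M := K) (IsScalarTower.toAlgHom F S k').toLinearMap (algebraMap S k').injective
  have key : ∀ z : K ⊗[F] k', ∃ (m : ℕ) (y : K ⊗[F] S), z ^ q ^ m = μ y := by
    intro z
    induction z using TensorProduct.induction_on with
    | zero => exact ⟨0, 0, by simp⟩
    | tmul a c =>
      obtain ⟨m, b, hb⟩ := IsPurelyInseparable.pow_mem S q c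
      exact ⟨m, (a ^ q ^ m) ⊗ₜ b, by
        rw [Algebra.TensorProduct.tmul_pow, ← hb]; rfl⟩
    | add z w hz hw =>
      obtain ⟨m₁, y₁, h₁⟩ := hz
      obtain ⟨m₂, y₂, h₂⟩ := hw
      refine ⟨m₁ + m₂, y₁ ^ q ^ m₂ + y₂ ^ q ^ m₁, ?_⟩
      rw [add_pow_expChar_pow, map_add, map_pow, map_pow, ← h₁, ← h₂, ← pow_mul, ← pow_mul,
        ← pow_add, ← pow_add, add_comm m₂ m₁]
  haveI : NoZeroDivisors (K ⊗[F] k') := by
    refine ⟨fun {x y} hxy => ?_⟩
    obtain ⟨m₁, a, ha⟩ := key x
    obtain ⟨m₂, b, hb⟩ := key y
    have hab : a ^ q ^ m₂ * b ^ q ^ m₁ = 0 := by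
      apply hμ
      rw [map_zero, map_mul, map_pow, map_pow, ← ha, ← hb, ← pow_mul, ← pow_mul, ← pow_add, ← pow_add,
        add_comm m₂ m₁, ← mul_pow, hxy, zero_pow (expChar_pow_ne_zero F q _)]
    rcases mul_eq_zero.1 hab with h | h
    · exact Or.inl (IsReduced.eq_zero x ⟨q ^ m₁, by rw [ha, eq_zero_of_pow_eq_zero h, map_zero]⟩)
    · exact Or.inr (IsReduced.eq_zero y ⟨q ^ m₂, by rw [hb, eq_zero_of_pow_eq_zero h, map_zero]⟩)
  haveI : IsDomain (K ⊗[F] k') := NoZeroDivisors.to_isDomain _
  haveI : Algebra.IsIntegral K (K ⊗[F] k') := Algebra.IsIntegral.tensorProduct F K k'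
  exact isField_of_isIntegral_of_isField' (Field.toIsField K)

/-- An algebraic extension is linearly disjoint from a regular one. -/
theorem isField_tensor [FiniteDimensional F k'] [IsReduced (K ⊗[F] k')]
    (hsep : ∀ a : K, IsSeparable F a → a ∈ Set.range (algebraMap F K)) : IsField (K ⊗[F] k') := by
  haveI : IsPurelyInseparable (separableClosure F k') k' := separableClosure.isPurelyInseparable F k'
  haveI : Algebra.IsSeparable F (separableClosure F k') := separableClosure.isSeparable F k'
  exact isField_tensor_aux F k' K (separableClosure F k') hsep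

/-- The degree of the constants divides the degree of the extension. -/
theorem finrank_dvd (L : Type u) [Field L] [FiniteDimensional F k'] [IsReduced (K ⊗[F] k')]
    (hsep : ∀ a : K, IsSeparable F a → a ∈ Set.range (algebraMap F K))
    [Algebra K L] [Algebra F L] [IsScalarTower F K L] [Algebra k' L] [IsScalarTower F k' L] :
    Module.finrank F k' ∣ Module.finrank K L := by
  letI : Field (K ⊗[F] k') := (isField_tensor F k' K hsep).toField
  let φ : K ⊗[F] k' →ₐ[K] L :=
    Algebra.TensorProduct.lift (Algebra.ofId K L) (IsScalarTower.toAlgHom F k' L) fun _ _ => Commute.all _ _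
  letI : Algebra (K ⊗[F] k') L := φ.toRingHom.toAlgebra
  haveI : IsScalarTower K (K ⊗[F] k') L := IsScalarTower.of_algebraMap_eq fun a => (φ.commutes a).symm
  refine ⟨Module.finrank (K ⊗[F] k') L, ?_⟩
  rw [← Module.finrank_mul_finrank K (K ⊗[F] k') L, Module.finrank_baseChange]

end Groth.Agent.GSDeg
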