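import Groth.Agent.GSDeg.Basic
import Groth.Agent.VarGeom.Normal
import Mathlib.AlgebraicGeometry.Pullbacks
import Mathlib.AlgebraicGeometry.ResidueField

/-!
# Regularity of the function field over the global functions
-/

set_option linter.style.haveILetI false
set_option backward.isDefEq.respectTransparency false
set_option backward.isDefEq.respectTransparency.types false

universe u

open CategoryTheory CategoryTheory.Limits AlgebraicGeometry TensorProduct

namespace Groth.Agent.GSDeg

/-- A form of the divisibility for rings which happen to be fields. -/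
theorem finrank_dvd_of_isField (R R' K L : Type u) [CommRing R] [CommRing R'] [Field K] [Field L]
    (hR : IsField R) (hR' : IsField R') [Algebra R R'] [Module.Finite R R'] [Algebra R K] [IsReduced (K ⊗[R] R')]
    (hsep : ∀ a : K, IsIntegral R a → a ∈ Set.range (algebraMap R K))
    [Algebra K L] [Algebra R L] [IsScalarTower R K L] [Algebra R' L] [IsScalarTower R R' L] :
    Module.finrank R R' ∣ Module.finrank K L := by
  letI := hR.toField
  letI := hR'.toField
  exact finrank_dvd R R' K L fun a ha => hsep a ha.isIntegral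

variable {X : Scheme.{u}}

/-- Evaluation of global functions at a point. -/
noncomputable def ev (ξ : X) : Γ(X, ⊤) →+* X.residueField ξ :=
  ((X.presheaf.germ ⊤ ξ trivial) ≫ X.residue ξ).hom

theorem residue_bijective [IsIntegral X] :
    Function.Bijective (X.residue (genericPoint X)).hom := by
  refine ⟨?_, Scheme.residue_surjective X (genericPoint X)⟩
  exact ((X.residue (genericPoint X)).hom : X.functionField →+* _).injective

theorem mem_range_of_isIntegralElem [IsIntegral X] (hX : ∀ x : X, IsIntegrallyClosed (X.presheaf.stalk x))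
    (ξ : X) (hξ : ξ = genericPoint X) (a : X.residueField ξ) (ha : (ev ξ).IsIntegralElem a) :
    a ∈ Set.range (ev ξ) := by
  subst hξ
  haveI : Nonempty (⊤ : X.Opens) := ⟨⟨genericPoint X, trivial⟩⟩
  obtain ⟨c, rfl⟩ := residue_bijective.2 a
  have hc : (X.germToFunctionField ⊤).hom.IsIntegralElem c := by
    obtain ⟨p, hp, hp0⟩ := ha
    refine ⟨p, hp, residue_bijective.1 ?_⟩
    rw [map_zero, Polynomial.hom_eval₂]
    exact hp0
  obtain ⟨s, hs⟩ := VarGeom.exists_global_of_isIntegral hX c hc
  exact ⟨s, congrArg (X.residue (genericPoint X)).hom hs⟩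

theorem isReduced_tensor [IsIntegral X] (ξ : X) (hξ : ξ = genericPoint X) (E : Type u) [Field E]
    (i : Γ(X, ⊤) →+* E) (hF : IsField Γ(X, ⊤))
    (h : AlgebraicGeometry.IsReduced (pullback X.toSpecΓ (Spec.map (CommRingCat.ofHom i)))) :
    letI := (ev ξ).toAlgebra
    letI := i.toAlgebra
    _root_.IsReduced (X.residueField ξ ⊗[Γ(X, ⊤)] E) := by
  subst hξ
  letI := (ev (genericPoint X)).toAlgebra
  letI := i.toAlgebra
  obtain ⟨_, ⟨U, hU, rfl⟩, hxU, -⟩ := X.isBasis_affineOpens.exists_subset_of_mem_open
    (Set.mem_univ (genericPoint X)) isOpen_univ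
  haveI : Nonempty U := ⟨⟨_, hxU⟩⟩
  letI := (X.presheaf.map (homOfLE le_top : U ⟶ ⊤).op).hom.toAlgebra
  letI : Algebra Γ(X, U) (X.residueField (genericPoint X)) :=
    ((X.presheaf.germ U (genericPoint X) hxU) ≫ X.residue (genericPoint X)).hom.toAlgebra
  haveI : IsScalarTower Γ(X, ⊤) Γ(X, U) (X.residueField (genericPoint X)) :=
    IsScalarTower.of_algebraMap_eq' (by
      show (ev (genericPoint X)) = ((X.presheaf.map (homOfLE le_top : U ⟶ ⊤).op) ≫
        (X.presheaf.germ U (genericPoint X) hxU) ≫ X.residue (genericPoint X)).hom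
      rw [← Category.assoc, X.presheaf.germ_res]
      rfl)
  haveI : IsFractionRing Γ(X, U) (X.residueField (genericPoint X)) := by
    haveI := functionField_isFractionRing_of_isAffineOpen X U hU
    let e : X.functionField ≃ₐ[Γ(X, U)] X.residueField (genericPoint X) :=
      { RingEquiv.ofBijective (X.residue (genericPoint X)).hom residue_bijective with
        commutes' := fun _ => rfl }
    exact IsLocalization.isLocalization_of_algEquiv (nonZeroDivisors Γ(X, U)) e
  haveI : _root_.IsReduced (Γ(X, U) ⊗[Γ(X, ⊤)] E) := by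
    let g : pullback (Spec.map (CommRingCat.ofHom (algebraMap Γ(X, ⊤) Γ(X, U))))
        (Spec.map (CommRingCat.ofHom (algebraMap Γ(X, ⊤) E))) ⟶
        pullback X.toSpecΓ (Spec.map (CommRingCat.ofHom i)) :=
      pullback.map _ _ _ _ hU.fromSpec (𝟙 _) (𝟙 _)
        (by rw [Category.comp_id, hU.fromSpec_toSpecΓ]; rfl) (by rw [Category.id_comp, Category.comp_id]; rfl)
    haveI : IsOpenImmersion g := by infer_instance
    haveI := h
    haveI := isReduced_of_isOpenImmersion g
    haveI := isReduced_of_isOpenImmersion (pullbackSpecIso Γ(X, ⊤) Γ(X, U) E).inv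
    exact (affine_isReduced_iff (CommRingCat.of (Γ(X, U) ⊗[Γ(X, ⊤)] E))).1 inferInstance
  letI := hF.toField
  exact isReduced_tensor_fraction Γ(X, ⊤) Γ(X, U) _ E

end Groth.Agent.GSDeg
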